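import Cfsg.Agent.H961.NR.Num
import Cfsg.Agent.H437.Iso.Untw
import Cfsg.Agent.H437.Iso.TwD4
import Cfsg.Agent.S1059
import Cfsg.Agent.S1067

/-!
# S3440: `G₂(q)` and `³D₄(q)` are not of type `Fr` (helper961)
-/

set_option autoImplicit false

namespace Cfsg.Agent.H961.NR

open Cfsg Cfsg.Lie
open Cfsg.Agent.H389.JSq (Has dvd_card_of_has)
open Cfsg.Agent.H389.NR (Fr)

/-- **`G₂(q)`** -/
theorem fr_g2 {L : Type*} [Group L] [Finite L] (h : IsoChevG2 L) : ¬ Fr L := by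
  obtain ⟨F, _, _, -, ⟨e⟩⟩ := h
  intro hL
  have hq : IsPrimePow (Nat.card F) := by
    rw [Nat.card_eq_fintype_card]; exact FiniteField.isPrimePow_card F
  have hq1 : 1 ≤ Nat.card F := Finite.card_pos
  refine not_fr (X := ↥(chevG2.group F)) hq ?_ ?_ (hL.congr e)
  · obtain ⟨x, hx⟩ := Cfsg.Agent.H437.Iso.g2_order1 (F := F)
    exact ⟨x, by rw [hx]⟩
  · intro h5
    rw [Cfsg.Agent.S1059.result (F := F) Nat.card_eq_fintype_card.symm] at h5
    rcases (Nat.Prime.dvd_mul Nat.prime_five).1 h5 with h5 | h5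
    · rcases (Nat.Prime.dvd_mul Nat.prime_five).1 h5 with h5 | h5
      · exact Or.inl (Nat.prime_five.dvd_of_dvd_pow h5)
      · exact Or.inr h5
    · exact Or.inr (five_sq hq1 (by simp) h5)

/-- **`³D₄(q)`** -/
theorem fr_3d4 {L : Type*} [Group L] [Finite L] (h : Iso3D4 L) : ¬ Fr L := by
  obtain ⟨K, _, _, q, hq, hK, ⟨e⟩⟩ := h
  intro hL
  have hq1 : 1 ≤ q := hq.pos
  refine not_fr (X := ↥(twistedD4 K q)) hq ?_ ?_ (hL.congr e)
  · obtain ⟨x, hx⟩ := Cfsg.Agent.H437.Iso.d4_orderA hq hK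
    refine ⟨x, ?_⟩
    rw [hx]
    have h1 : q ^ 2 - 1 = (q - 1) * (q + 1) := by
      rw [mul_comm]
      simpa using Nat.sq_sub_sq q 1
    rw [h1]
    refine mul_dvd_mul ?_ dvd_rfl
    simpa using Nat.sub_dvd_pow_sub_pow q 1 3
  · intro h5
    rw [Cfsg.Agent.S1067.result hq hK] at h5
    rcases (Nat.Prime.dvd_mul Nat.prime_five).1 h5 with h5 | h5
    · rcases (Nat.Prime.dvd_mul Nat.prime_five).1 h5 with h5 | h5
      · rcases (Nat.Prime.dvd_mul Nat.prime_five).1 h5 with h5 | h5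
        · exact Or.inl (Nat.prime_five.dvd_of_dvd_pow h5)
        · exact Or.inr h5
      · exact Or.inr (five_sq hq1 (by simp) h5)
    · left
      have h6 : (q ^ 8 + q ^ 4 + 1) % 5 = 0 := Nat.mod_eq_zero_of_dvd h5
      have h2 : q % 5 < 5 := Nat.mod_lt _ (by norm_num)
      have h7 : ((q % 5) ^ 8 + (q % 5) ^ 4 + 1) % 5 = 0 := by
        rw [← h6]
        simp [Nat.add_mod, Nat.pow_mod]
      have h8 : q % 5 = 0 := by
        generalize q % 5 = r at h7 h2 ⊢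
        interval_cases r <;> revert h7 <;> decide
      exact Nat.dvd_of_mod_eq_zero h8

end Cfsg.Agent.H961.NR
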