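import Cfsg.Agent.H389.NR.Fr

/-!
# S3440: groups with a torus of order divisible by `q^2 - 1` (helper961)
-/

set_option autoImplicit false

namespace Cfsg.Agent.H961.NR

open Cfsg.Agent.H389.JSq (Has dvd_card_of_has)
open Cfsg.Agent.H389.NR (Fr)

theorem mod_of_dvd {a n : ℕ} (ha : 1 ≤ a) (hn : 1 < n) (h : n ∣ a - 1) : a % n = 1 := by
  obtain ⟨k, hk⟩ := h
  have e : a = n * k + 1 := by omega
  rw [e, Nat.mul_add_mod, Nat.mod_eq_of_lt hn]

theorem dvd_of_mod {a n : ℕ} (h : a % n = 1) : n ∣ a - 1 := by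
  have := Nat.div_add_mod a n
  exact ⟨a / n, by omega⟩

theorem not_two_primes {q a b : ℕ} (hq : IsPrimePow q) (ha : a.Prime) (hb : b.Prime) (hab : a ≠ b) (h1 : a ∣ q) (h2 : b ∣ q) :
    False := by
  obtain ⟨p, k, hp, -, rfl⟩ := hq
  have hp' := hp.nat_prime
  have e1 := (Nat.prime_dvd_prime_iff_eq ha hp').1 (ha.dvd_of_dvd_pow h1)
  have e2 := (Nat.prime_dvd_prime_iff_eq hb hp').1 (hb.dvd_of_dvd_pow h2)
  exact hab (e1.trans e2.symm)

theorem sq_mod {q n : ℕ} (hn : 0 < n) (P : ℕ → Prop) (key : ∀ r : Fin n, P (r : ℕ) → ((r : ℕ) ^ 2) % n = 1) (h : P (q % n)) :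
    q ^ 2 % n = 1 := by
  rw [Nat.pow_mod]
  exact key ⟨q % n, Nat.mod_lt _ hn⟩ h

/-- **numerical criterion** -/
theorem not_fr {X : Type*} [Group X] [Finite X] {q : ℕ} (hq : IsPrimePow q) (hx : ∃ x : X, q ^ 2 - 1 ∣ orderOf x)
    (h5 : 5 ∣ Nat.card X → 5 ∣ q ∨ 5 ∣ q ^ 2 - 1) : ¬ Fr X := by
  intro h
  obtain ⟨x, hx⟩ := hx
  have h1 := h5 (dvd_trans (by norm_num) (dvd_card_of_has h.ten))
  have has : ∀ n, n ∣ q ^ 2 - 1 → Has X n := fun n hn => Has.of_dvd_orderOf (hn.trans hx)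
  by_cases h2 : 2 ∣ q
  · -- characteristic 2
    have h3 : 5 ∣ q ^ 2 - 1 := h1.resolve_left fun h5 =>
      not_two_primes hq Nat.prime_two Nat.prime_five (by norm_num) h2 h5
    have h4 : ¬ 3 ∣ q := fun h4 => not_two_primes hq Nat.prime_two Nat.prime_three (by norm_num) h2 h4
    have h5 : 3 ∣ q ^ 2 - 1 := dvd_of_mod (sq_mod (by norm_num) (fun r => r ≠ 0) (by decide) (by omega))
    exact h.fifteen (has 15 (Nat.Coprime.mul_dvd_of_dvd_of_dvd (by norm_num : Nat.Coprime 3 5) h5 h3))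
  · have h8 : 8 ∣ q ^ 2 - 1 :=
      dvd_of_mod (sq_mod (by norm_num) (fun r => r % 2 ≠ 0) (by decide) (by omega))
    by_cases h3 : 3 ∣ q
    · have h5 : 5 ∣ q ^ 2 - 1 := h1.resolve_left fun h5 =>
        not_two_primes hq Nat.prime_three Nat.prime_five (by norm_num) h3 h5
      exact h.twenty (has 20 (dvd_trans (by norm_num)
        (Nat.Coprime.mul_dvd_of_dvd_of_dvd (by norm_num : Nat.Coprime 8 5) h8 h5)))
    · have h5 : 3 ∣ q ^ 2 - 1 := dvd_of_mod (sq_mod (by norm_num) (fun r => r ≠ 0) (by decide) (by omega))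
      exact h.twentyfour (has 24 (Nat.Coprime.mul_dvd_of_dvd_of_dvd (by norm_num : Nat.Coprime 3 8) h5 h8))

theorem five_sq {q : ℕ} (hq : 1 ≤ q) {k : ℕ} (hk : k ∈ [1, 2, 3, 6]) (h : 5 ∣ q ^ k - 1) : 5 ∣ q ^ 2 - 1 := by
  have h1 : q ^ k % 5 = 1 := mod_of_dvd (Nat.one_le_pow _ _ hq) (by norm_num) h
  apply dvd_of_mod
  rw [Nat.pow_mod] at h1 ⊢
  have h2 : q % 5 < 5 := Nat.mod_lt _ (by norm_num)
  simp only [List.mem_cons, List.not_mem_nil, or_false] at hk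
  generalize q % 5 = r at h1 h2 ⊢
  rcases hk with rfl | rfl | rfl | rfl <;> interval_cases r <;> revert h1 <;> decide

end Cfsg.Agent.H961.NR
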